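import Cfsg.Agent.H307.XC.TypOne
import Cfsg.Agent.H594.LB.MuZero
import Cfsg.Agent.H116.HeckeD
import Mathlib.GroupTheory.Coxeter.Matrix

/-!
# Automorphisms and the constituents given by `HasVal` (helper668, S4933)

* `map_PJ_of_typ`, `mem_PJ_of_typ` : an automorphism of trivial type maps `P_J` to a conjugate of `P_J`;
* `self_PJ` : `P_J` is self-normalizing;
* `perm_one` : the multiplicity of a constituent given by `HasVal` is one (class functions);
* `hasVal_inv` : the constituents given by `HasVal` are invariant under the automorphisms of trivial type;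
* `typ_one_E7`, `typ_one_E8` : the automorphisms of a group of type `E₇`, `E₈` have trivial type.
-/

set_option autoImplicit false
set_option linter.unusedSectionVars false

open Cfsg Subgroup
open Cfsg.Agent.H674.XZ Cfsg.Agent.H667.BR
open CoxeterSystem Cfsg.Agent.ChevalleyStructure.CoxeterGeom Cfsg.Agent.Tits.Roots Cfsg.Agent.Tits.Core
  Cfsg.Agent.Nodes.Reps Cfsg.Agent.Nodes.BNOf Cfsg.Agent.Nodes.StabComb
  Cfsg.Agent.Nodes.Bruhat Cfsg.Agent.Nodes.OppDec Cfsg.Agent.Nodes.LeviDec Cfsg.Agent.Characters.Core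
  Cfsg.Agent.H116.StAut Cfsg.Agent.H145.BR Cfsg.Agent.H967.Sph Cfsg.Agent.H996.PQ
open Cfsg.Agent.H439.CC (mu)
open Cfsg.Agent.H116.HeckeD (perm)

namespace Cfsg.Agent.H668.HT

universe u

section Rgd

variable {I W : Type*} {Y : Type u} [Fintype I] [DecidableEq I] [Group W] [Finite W] [Group Y] [Finite Y]
    {M : CoxeterMatrix I} {cs : CoxeterSystem M W} {A : I → I → ℤ} {h : IsCartan M A} {p : ℕ} {T : Subgroup Y}
    {n : I → Y} {X : (I → ℤ) → Subgroup Y} (R : RGD cs h p T n X) (hG : GG cs h T X = ⊤)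

/-- an automorphism of trivial type maps `P_J` to a conjugate -/
theorem map_PJ_of_typ [Fact p.Prime] (α : MulAut Y) (hα : typHom R hG α = 1) (J : Set I) :
    ∃ s : Y, (PJ cs h T X J).map α.toMonoidHom = (PJ cs h T X J).map (MulAut.conj s).toMonoidHom := by
  refine ⟨gel R hG α, ?_⟩
  have h1 := gel_spec R hG α J
  have h2 : typ R hG α = 1 := hα
  rw [h2, Equiv.Perm.coe_one, Set.image_id] at h1
  ext y
  constructor
  · rintro ⟨x, hx, rfl⟩
    refine ⟨(gel R hG α)⁻¹ * α x * gel R hG α, (h1 x).2 hx, ?_⟩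
    show MulAut.conj (gel R hG α) ((gel R hG α)⁻¹ * α x * gel R hG α) = α x
    rw [MulAut.conj_apply]
    group
  · rintro ⟨x, hx, rfl⟩
    show MulAut.conj (gel R hG α) x ∈ _
    refine ⟨α⁻¹ (MulAut.conj (gel R hG α) x), (h1 _).1 ?_, ?_⟩
    · rw [MulAut.apply_inv_self, MulAut.conj_apply]
      have e : (gel R hG α)⁻¹ * (gel R hG α * x * (gel R hG α)⁻¹) * gel R hG α = x := by group
      rw [e]
      exact hx
    · exact MulAut.apply_inv_self Y _ _

/-- the same, pointwise -/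
theorem mem_PJ_of_typ [Fact p.Prime] (α : MulAut Y) (hα : typHom R hG α = 1) (J : Set I) :
    ∃ s : Y, ∀ x, s⁻¹ * α x * s ∈ PJ cs h T X J ↔ x ∈ PJ cs h T X J := by
  refine ⟨gel R hG α, ?_⟩
  have h1 := gel_spec R hG α J
  have h2 : typ R hG α = 1 := hα
  rwa [h2, Equiv.Perm.coe_one, Set.image_id] at h1

include R hG in
/-- parabolic subgroups are self-normalizing -/
theorem self_PJ [Fact p.Prime] (J : Set I) (s : Y) (hs : ∀ x, s⁻¹ * x * s ∈ PJ cs h T X J ↔ x ∈ PJ cs h T X J) :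
    s ∈ PJ cs h T X J := by
  refine Cfsg.Agent.H554.RG.mem_of_B_le_conj R hG (P := PJ cs h T X J) B_le_PJ ?_
  intro b hb
  refine ⟨s⁻¹ * b * s, (hs b).2 (B_le_PJ hb), ?_⟩
  show MulAut.conj s (s⁻¹ * b * s) = b
  rw [MulAut.conj_apply]
  group

variable {j : I} {N m : ℕ} (t : Tab A j N m)

include R hG in
/-- **multiplicity one** -/
theorem perm_one [Fintype Y] {χ : IrrCharacter Y} {d : ℕ} {a : Fin m → ℚ} (H : HasVal R hG t (χ : Y → ℂ) d a) :
    classInner (perm Y (Y ⧸ PJ cs h T X {i | i ≠ j})) (χ : Y → ℂ) = 1 := by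
  have h1 := H594.LB.Mu.mu_one R hG t H
  have h2 := H319.PQ.classInner_cosets (PJ cs h T X {i | i ≠ j}) χ
  exact h2.trans h1

include R hG in
/-- multiplicity one -/
theorem ip_one {χ : IrrCharacter Y} {d : ℕ} {a : Fin m → ℚ} (H : HasVal R hG t (χ : Y → ℂ) d a) :
    ip (permC Y (Y ⧸ PJ cs h T X {i | i ≠ j})) (χ : Y → ℂ) = 1 := by
  classical
  have := Fintype.ofFinite Y
  rw [ip_eq]
  exact perm_one R hG t H

/-- **invariance under the automorphisms of trivial type** -/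
theorem hasVal_inv [Fact p.Prime] {χ : IrrCharacter Y} {d : ℕ} {a : Fin m → ℚ}
    (H : HasVal R hG t (χ : Y → ℂ) d a) (α : MulAut Y) (hα : typHom R hG α = 1) (s : Y) :
    (χ : Y → ℂ) (α s) = (χ : Y → ℂ) s := by
  refine H307.XC.inv_of_perm R hG χ (H307.XC.perm_of_PJ R hG {i | i ≠ j} ?_) α hα s
  rw [ip_one R hG t H]
  exact one_ne_zero

end Rgd

/-! ### Diagrams without symmetries -/

/-- the number of walks of length `k` starting at `i` -/
def wk {n : ℕ} (M : CoxeterMatrix (Fin n)) : ℕ → Fin n → ℕ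
  | 0, _ => 1
  | k + 1, i => ∑ j : Fin n, if M i j = 3 then wk M k j else 0

theorem wk_perm {n : ℕ} (M : CoxeterMatrix (Fin n)) (σ : Equiv.Perm (Fin n))
    (h : ∀ i j, M (σ i) (σ j) = M i j) : ∀ k i, wk M k (σ i) = wk M k i
  | 0, _ => rfl
  | k + 1, i => by
    show ∑ j : Fin n, (if M (σ i) j = 3 then wk M k j else 0) = ∑ j : Fin n, if M i j = 3 then wk M k j else 0
    rw [← Equiv.sum_comp σ]
    refine Finset.sum_congr rfl fun j _ => ?_
    rw [wk_perm M σ h k j, h]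

theorem eq_one_of_wk {n : ℕ} (M : CoxeterMatrix (Fin n)) (k : ℕ) (hk : ∀ i j, wk M k i = wk M k j → i = j)
    (σ : Equiv.Perm (Fin n)) (h : ∀ i j, M (σ i) (σ j) = M i j) : σ = 1 :=
  Equiv.ext fun i => hk _ _ (wk_perm M σ h k i)

theorem wk_E7 : ∀ i j, wk CoxeterMatrix.E₇ 5 i = wk CoxeterMatrix.E₇ 5 j → i = j := by decide +kernel

theorem wk_E8 : ∀ i j, wk CoxeterMatrix.E₈ 3 i = wk CoxeterMatrix.E₈ 3 j → i = j := by decide +kernel

/-- **type `E₇`** -/
theorem typ_one_E7 {W : Type*} {Y : Type u} [Group W] [Finite W] [Group Y] [Finite Y]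
    {cs : CoxeterSystem CoxeterMatrix.E₇ W} {A : Fin 7 → Fin 7 → ℤ} {h : IsCartan CoxeterMatrix.E₇ A} {p : ℕ}
    [Fact p.Prime] {T : Subgroup Y} {n : Fin 7 → Y} {X : (Fin 7 → ℤ) → Subgroup Y} (R : RGD cs h p T n X)
    (hG : GG cs h T X = ⊤) (α : MulAut Y) : typHom R hG α = 1 :=
  eq_one_of_wk _ 5 wk_E7 _ (H307.XC.typ_matrix R hG α)

/-- **type `E₈`** -/
theorem typ_one_E8 {W : Type*} {Y : Type u} [Group W] [Finite W] [Group Y] [Finite Y]
    {cs : CoxeterSystem CoxeterMatrix.E₈ W} {A : Fin 8 → Fin 8 → ℤ} {h : IsCartan CoxeterMatrix.E₈ A} {p : ℕ}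
    [Fact p.Prime] {T : Subgroup Y} {n : Fin 8 → Y} {X : (Fin 8 → ℤ) → Subgroup Y} (R : RGD cs h p T n X)
    (hG : GG cs h T X = ⊤) (α : MulAut Y) : typHom R hG α = 1 :=
  eq_one_of_wk _ 3 wk_E8 _ (H307.XC.typ_matrix R hG α)

end Cfsg.Agent.H668.HT
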